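import Mathlib.RingTheory.PolynomialAlgebra
import Mathlib.Algebra.Category.Ring.Constructions
import Mathlib.RingTheory.Localization.AtPrime.Basic
import Mathlib.RingTheory.Polynomial.Basic
import Mathlib.RingTheory.DiscreteValuationRing.TFAE
import Mathlib.Tactic

/-! # The line over a ring: vertical primes and their local rings -/

set_option autoImplicit false
universe u

open CategoryTheory Polynomial

namespace Groth.Agent.Horiz26

/-- A pushout of `k → k[X]` along `k → A` is a polynomial ring over `A`. -/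
theorem bijective_eval₂_of_isPushout {k A B : CommRingCat.{u}} (φ : k ⟶ A) (inl : A ⟶ B)
    (inr : CommRingCat.of (Polynomial k) ⟶ B)
    (h : IsPushout φ (CommRingCat.ofHom (C : k →+* Polynomial k)) inl inr) :
    Function.Bijective (eval₂RingHom inl.hom (inr.hom X)) := by
  let g : B ⟶ CommRingCat.of (Polynomial A) := h.desc (CommRingCat.ofHom (C : A →+* Polynomial A))
    (CommRingCat.ofHom (mapRingHom φ.hom)) (by ext r; simp)
  let e : CommRingCat.of (Polynomial A) ⟶ B := CommRingCat.ofHom (eval₂RingHom inl.hom (inr.hom X))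
  have hl : inl ≫ g = CommRingCat.ofHom (C : A →+* Polynomial A) := h.inl_desc _ _ _
  have hr : inr ≫ g = CommRingCat.ofHom (mapRingHom φ.hom) := h.inr_desc _ _ _
  have h1 : g ≫ e = 𝟙 B := by
    refine h.hom_ext ?_ ?_
    · rw [← Category.assoc, hl, Category.comp_id]
      ext a; simp [e]
    · rw [← Category.assoc, hr, Category.comp_id]
      refine CommRingCat.hom_ext (Polynomial.ringHom_ext (fun r => ?_) ?_)
      · simpa [e] using congr($(h.w) r)
      · simp [e]
  have h2 : e ≫ g = 𝟙 _ := by
    refine CommRingCat.hom_ext (Polynomial.ringHom_ext (fun a => ?_) ?_)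
    · simpa [e] using congr($hl a)
    · simpa [e] using congr($hr X)
  exact Function.bijective_iff_has_inverse.2 ⟨g.hom, fun p => congr($h2 p), fun b => congr($h1 b)⟩

variable {A B : Type u} [CommRing A] [CommRing B] (α : A →+* B) (t : B)

/-- A prime over a maximal ideal is maximal or generic in the fibre. -/
theorem isMaximal_or_eq_map (he : Function.Bijective (eval₂RingHom α t)) (m : Ideal A) [m.IsMaximal]
    (Q : Ideal B) [Q.IsPrime] (hQ : Q.comap α = m) : Q.IsMaximal ∨ Q = m.map α := by
  let E : Polynomial A →+* B := eval₂RingHom α t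
  let φ : Polynomial A →+* Polynomial (A ⧸ m) := mapRingHom (Ideal.Quotient.mk m)
  letI := Ideal.Quotient.field m
  have hφ : Function.Surjective φ := map_surjective _ Ideal.Quotient.mk_surjective
  have hker : RingHom.ker φ = m.map (C : A →+* Polynomial A) := by
    rw [Polynomial.ker_mapRingHom, Ideal.mk_ker]
  have hEC : E.comp C = α := by ext a; simp [E]
  have hle : RingHom.ker φ ≤ Q.comap E := by
    rw [hker, Ideal.map_le_iff_le_comap, Ideal.comap_comap, hEC, hQ]
  have hcm : (Ideal.map φ (Q.comap E)).comap φ = Q.comap E := by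
    rw [Ideal.comap_map_of_surjective φ hφ, sup_eq_left]
    exact hle
  by_cases h0 : Ideal.map φ (Q.comap E) = ⊥
  · refine Or.inr ?_
    rw [h0] at hcm
    have h1 : Q.comap E = m.map (C : A →+* Polynomial A) := hcm.symm.trans hker
    rw [← Ideal.map_comap_of_surjective E he.2 Q, h1, Ideal.map_map, hEC]
  · refine Or.inl ?_
    haveI := Ideal.map_isPrime_of_surjective hφ hle
    haveI : (Ideal.map φ (Q.comap E)).IsMaximal := IsPrime.to_maximal_ideal h0
    haveI h2 : (Q.comap E).IsMaximal := hcm ▸ Ideal.comap_isMaximal_of_surjective φ hφ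
    rw [← Ideal.map_comap_of_surjective E he.2 Q]
    exact h2.map_bijective E he

/-- At the generic point of the fibre, a combination of powers of `t` with a unit coefficient is a unit. -/
theorem isUnit_sum (he : Function.Bijective (eval₂RingHom α t)) (m : Ideal A)
    (Q : Ideal B) [Q.IsPrime] (hQ : Q = m.map α) {S : Type u} [CommRing S] [Algebra B S]
    [IsLocalization.AtPrime S Q] {n : ℕ} (c : Fin n → A) (hc : ∃ i, c i ∉ m) :
    IsUnit (algebraMap B S (∑ i, α (c i) * t ^ (i : ℕ))) := by
  refine IsLocalization.map_units S (⟨∑ i, α (c i) * t ^ (i : ℕ), ?_⟩ : Q.primeCompl)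
  change ∑ i, α (c i) * t ^ (i : ℕ) ∉ Q
  intro hmem
  obtain ⟨i, hi⟩ := hc
  have hEC : (eval₂RingHom α t).comp C = α := by ext a; simp
  have hs : eval₂RingHom α t (∑ j, C (c j) * X ^ (j : ℕ)) = ∑ j, α (c j) * t ^ (j : ℕ) := by
    simp [map_sum]
  have hQ' : Q = (m.map (C : A →+* Polynomial A)).map (eval₂RingHom α t) := by rw [Ideal.map_map, hEC, hQ]
  rw [← hs, hQ', ← Ideal.mem_comap,
    Ideal.comap_map_of_bijective _ he, Ideal.mem_map_C_iff] at hmem
  refine hi ?_
  have := hmem i
  simpa [finsetSum_coeff, coeff_C_mul_X_pow, Fin.val_inj] using this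

theorem maximalIdeal_eq (m : Ideal A) (Q : Ideal B) [Q.IsPrime] (hQ : Q = m.map α) (S : Type u)
    [CommRing S] [IsLocalRing S] [Algebra B S] [IsLocalization.AtPrime S Q] :
    IsLocalRing.maximalIdeal S = m.map ((algebraMap B S).comp α) := by
  rw [← Ideal.map_map, ← hQ, IsLocalization.AtPrime.map_eq_maximalIdeal Q S]

/-- A local domain with principal nonzero maximal ideal is a DVR. -/
theorem isDVR_of_maximalIdeal (R : Type u) [CommRing R] [IsDomain R] [IsNoetherianRing R] [IsLocalRing R]
    (g : R) (hg : g ≠ 0) (h : IsLocalRing.maximalIdeal R = Ideal.span {g}) : IsDiscreteValuationRing R := by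
  have hnf : ¬ IsField R := fun hf => by
    rw [(IsLocalRing.isField_iff_maximalIdeal_eq).1 hf, eq_comm, Ideal.span_singleton_eq_bot] at h
    exact hg h
  have hiff : IsDiscreteValuationRing R ↔ (IsLocalRing.maximalIdeal R).IsPrincipal :=
    (IsDiscreteValuationRing.TFAE R hnf).out 0 4
  exact hiff.2 ⟨⟨g, h⟩⟩

end Groth.Agent.Horiz26
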