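import Groth.Agent.Lib.Horiz26.Alg
import Mathlib.AlgebraicGeometry.Morphisms.Affine
import Mathlib.AlgebraicGeometry.Morphisms.FiniteType
import Mathlib.AlgebraicGeometry.Properties
import Mathlib.AlgebraicGeometry.Noetherian
import Mathlib.AlgebraicGeometry.FunctionField
import Mathlib.AlgebraicGeometry.Stalk

/-! # Charts of `X ×_k A¹` -/

set_option autoImplicit false
set_option linter.style.haveILetI false
universe u

open CategoryTheory AlgebraicGeometry TopologicalSpace Polynomial CategoryTheory.Limits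

namespace Groth.Agent.Horiz26

variable {k : Type u} [Field k] {X P : Scheme.{u}} {f : X ⟶ Spec (CommRingCat.of k)}
  {p₁ : P ⟶ X} {p₂ : P ⟶ Spec (CommRingCat.of (Polynomial k))}
  (hP : IsPullback p₁ p₂ f (Spec.map (CommRingCat.ofHom (C : k →+* Polynomial k))))

/-- The coordinate on `P`. -/
noncomputable def coord (p₂ : P ⟶ Spec (CommRingCat.of (Polynomial k))) : Γ(P, ⊤) :=
  p₂.appTop ((Scheme.ΓSpecIso (CommRingCat.of (Polynomial k))).inv Polynomial.X)

/-- The coordinate on an open. -/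
noncomputable def coordOn (p₂ : P ⟶ Spec (CommRingCat.of (Polynomial k))) (W : P.Opens) : Γ(P, W) :=
  P.presheaf.map (homOfLE (le_top : W ≤ ⊤)).op (coord p₂)

include hP

theorem isAffineHom : IsAffineHom p₁ := MorphismProperty.of_isPullback hP.flip inferInstance

theorem isAffineOpen_preimage {V : X.Opens} (hV : IsAffineOpen V) : IsAffineOpen (p₁ ⁻¹ᵁ V) :=
  haveI := isAffineHom hP
  hV.preimage p₁

theorem bijective_eval₂ {V : X.Opens} (hV : IsAffineOpen V) :
    Function.Bijective (eval₂RingHom (p₁.app V).hom (coordOn p₂ (p₁ ⁻¹ᵁ V))) := by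
  haveI : IsAffine (V : Scheme.{u}) := hV
  have sq := ((isPullback_morphismRestrict p₁ V).flip.paste_horiz hP.flip).flip
  have hpo := (isPushout_appTop_of_isPullback sq).of_iso (Scheme.ΓSpecIso (CommRingCat.of k)) V.topIso
    (Scheme.ΓSpecIso (CommRingCat.of (Polynomial k))) (p₁ ⁻¹ᵁ V).topIso
    (f' := (Scheme.ΓSpecIso (CommRingCat.of k)).inv ≫ (V.ι ≫ f).appTop ≫ V.topIso.hom)
    (g' := CommRingCat.ofHom (C : k →+* Polynomial k)) (inl' := p₁.app V)
    (inr' := (Scheme.ΓSpecIso (CommRingCat.of (Polynomial k))).inv ≫ p₂.appTop ≫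
      P.presheaf.map (homOfLE (le_top : p₁ ⁻¹ᵁ V ≤ ⊤)).op)
    (by simp) (by rw [Scheme.ΓSpecIso_naturality])
    (by
      simp [Scheme.Hom.app_eq_appLE]
      erw [Scheme.Hom.appLE_map, Scheme.Hom.map_appLE])
    (by
      simp [Scheme.Hom.appTop]
      erw [← Functor.map_comp]
      rfl)
  simpa [coordOn, coord] using bijective_eval₂_of_isPushout _ _ _ hpo

theorem surjective_proj : Function.Surjective p₁ := by
  haveI : Surjective (Spec.map (CommRingCat.ofHom (C : k →+* Polynomial k))) := ⟨fun y =>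
    ⟨(⟨Ideal.span {(Polynomial.X : Polynomial k)}, (Ideal.span_singleton_prime Polynomial.X_ne_zero).2
      Polynomial.prime_X⟩ : PrimeSpectrum (Polynomial k)), Subsingleton.elim (α := PrimeSpectrum k) _ _⟩⟩
  haveI : Surjective p₁ := MorphismProperty.of_isPullback hP.flip ‹_›
  exact p₁.surjective

theorem isIntegral_proj [IsIntegral X] : IsIntegral P := by
  have hne : ∀ V : X.Opens, IsAffineOpen V → (V : Set X).Nonempty → IsDomain Γ(P, p₁ ⁻¹ᵁ V) := by
    intro V hV hVne
    haveI : Nonempty V := hVne.to_subtype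
    let e := RingEquiv.ofBijective _ (bijective_eval₂ hP hV)
    exact e.toMulEquiv.isDomain_iff.1 inferInstance
  haveI hred : IsReduced P := by
    haveI : ∀ x : P, _root_.IsReduced (P.presheaf.stalk x) := fun x => by
      obtain ⟨V, hV, hxV, -⟩ := exists_isAffineOpen_mem_and_subset (show p₁ x ∈ (⊤ : X.Opens) from trivial)
      haveI := hne V hV ⟨_, hxV⟩
      letI := P.presheaf.algebra_section_stalk (U := p₁ ⁻¹ᵁ V) ⟨x, hxV⟩
      haveI := (isAffineOpen_preimage hP hV).isLocalization_stalk ⟨x, hxV⟩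
      haveI := IsLocalization.isDomain_of_atPrime (P.presheaf.stalk x)
        ((isAffineOpen_preimage hP hV).primeIdealOf ⟨x, hxV⟩).asIdeal
      infer_instance
    exact isReduced_of_isReduced_stalk P
  have hirr : ∀ V : X.Opens, IsAffineOpen V → (V : Set X).Nonempty → IsPreirreducible (p₁ ⁻¹ᵁ V : Set P) := by
    intro V hV hVne
    haveI := hne V hV hVne
    rw [← (isAffineOpen_preimage hP hV).range_fromSpec, ← Set.image_univ]
    exact (PreirreducibleSpace.isPreirreducible_univ).image _ (Scheme.Hom.continuous _).continuousOn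
  have hsurj : Function.Surjective p₁ := surjective_proj hP
  haveI : Nonempty P := ⟨(hsurj (genericPoint X)).choose⟩
  haveI : PreirreducibleSpace P := ⟨fun O O' hO hO' ⟨a, _, ha⟩ ⟨b, _, hb⟩ => by
    obtain ⟨V, hV, haV, -⟩ := exists_isAffineOpen_mem_and_subset (show p₁ a ∈ (⊤ : X.Opens) from trivial)
    obtain ⟨V', hV', hbV, -⟩ := exists_isAffineOpen_mem_and_subset (show p₁ b ∈ (⊤ : X.Opens) from trivial)
    obtain ⟨y, hy, hy'⟩ := nonempty_preirreducible_inter V.isOpen V'.isOpen ⟨_, haV⟩ ⟨_, hbV⟩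
    obtain ⟨w, rfl⟩ := hsurj y
    obtain ⟨z, hz, hzO', hzV⟩ := hirr V' hV' ⟨_, hbV⟩ O' (p₁ ⁻¹ᵁ V : P.Opens) hO' (p₁ ⁻¹ᵁ V : P.Opens).isOpen
      ⟨b, hbV, hb⟩ ⟨w, hy', hy⟩
    obtain ⟨z', -, h1, h2⟩ := hirr V hV ⟨_, haV⟩ O O' hO hO' ⟨a, haV, ha⟩ ⟨z, hzV, hzO'⟩
    exact ⟨z', trivial, h1, h2⟩⟩
  haveI : IrreducibleSpace P := ⟨inferInstance⟩
  exact isIntegral_of_irreducibleSpace_of_isReduced P

end Groth.Agent.Horiz26
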