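import Groth.Agent.Lib.Horiz26.Ord
import Groth.Agent.Lib.Cyc26.RatFun
import Groth.Agent.Lib.Cyc26.RatAlg
import Mathlib.AlgebraicGeometry.Morphisms.Proper

/-! # Every divisor on `X ×_k A¹` is rationally equivalent to a horizontal one -/

set_option autoImplicit false
set_option linter.style.haveILetI false
universe u

set_option backward.isDefEq.respectTransparency.types false

open CategoryTheory AlgebraicGeometry TopologicalSpace Polynomial CategoryTheory.Limits
open scoped Classical

namespace Groth.Agent.Horiz26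

variable {k : Type u} [Field k] {X : Scheme.{u}} [IsIntegral X] [X.IsSeparated]

/-- Outside an affine open some function of the open has a pole. -/
theorem exists_pole {η : X} (hη : η = genericPoint X) {V : X.Opens} (hV : IsAffineOpen V) (hηV : η ∈ V)
    {s : X} (hs : s ∉ V) (h : η ⤳ s) :
    ∃ a : Γ(X, V), ∀ c : X.presheaf.stalk s, X.presheaf.stalkSpecializes h c ≠ X.presheaf.germ V η hηV a := by
  by_contra hno
  push Not at hno
  choose r hr using hno
  have hinj := ((frac_of_generic hη).2 s h).1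
  have h1 : ∀ a, (X.presheaf.stalkSpecializes h).hom (r a) = (X.presheaf.germ V η hηV).hom a := hr
  let ρ : Γ(X, V) ⟶ X.presheaf.stalk s := CommRingCat.ofHom
    { toFun := r
      map_one' := hinj ((h1 1).trans ((RingHom.map_one _).trans (RingHom.map_one _).symm))
      map_mul' := fun a b => hinj ((h1 (a * b)).trans ((RingHom.map_mul _ a b).trans
        ((congrArg₂ (· * ·) (h1 a).symm (h1 b).symm).trans (RingHom.map_mul _ _ _).symm)))
      map_zero' := hinj ((h1 0).trans ((RingHom.map_zero _).trans (RingHom.map_zero _).symm))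
      map_add' := fun a b => hinj ((h1 (a + b)).trans ((RingHom.map_add _ a b).trans
        ((congrArg₂ (· + ·) (h1 a).symm (h1 b).symm).trans (RingHom.map_add _ _ _).symm))) }
  have hρ : ρ ≫ X.presheaf.stalkSpecializes h = X.presheaf.germ V η hηV := by ext a; exact hr a
  haveI : IsDominant (Spec.map (X.presheaf.stalkSpecializes h)) := by
    refine ⟨?_⟩
    rw [DenseRange]
    exact (PrimeSpectrum.denseRange_comap_iff_ker_le_nilRadical _).2
      (((RingHom.injective_iff_ker_eq_bot _).1 hinj).trans_le bot_le)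
  haveI : IsDomain (X.presheaf.stalk s) := inferInstance
  have e : Spec.map ρ ≫ hV.fromSpec = X.fromSpecStalk s := by
    refine ext_of_isDominant (Spec.map (X.presheaf.stalkSpecializes h)) ?_
    rw [← Category.assoc, ← Spec.map_comp, hρ, Scheme.SpecMap_stalkSpecializes_fromSpecStalk]
    exact hV.fromSpecStalk_eq_fromSpecStalk hηV
  refine hs ?_
  rw [← Scheme.fromSpecStalk_closedPoint (X := X) (x := s), ← e]
  exact hV.range_fromSpec.le ⟨_, rfl⟩

/-- Outside an affine open some element of a nonzero ideal of the open has a pole. -/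
theorem exists_pole_mem [IsLocallyNoetherian X] {η : X} (hη : η = genericPoint X) {V : X.Opens}
    (hV : IsAffineOpen V) (hηV : η ∈ V) {s : X} (hs : s ∉ V) (h : η ⤳ s)
    [IsDiscreteValuationRing (X.presheaf.stalk s)] (I : Ideal Γ(X, V)) (hI : I ≠ ⊥) :
    ∃ a ∈ I, ∀ c : X.presheaf.stalk s, X.presheaf.stalkSpecializes h c ≠ X.presheaf.germ V η hηV a := by
  by_contra hno
  push Not at hno
  obtain ⟨a, ha⟩ := exists_pole hη hV hηV hs h
  obtain ⟨g, hgI, hg0⟩ := Submodule.exists_mem_ne_zero_of_ne_bot hI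
  obtain ⟨hf, hsp⟩ := frac_of_generic hη
  obtain ⟨hinj, hfr⟩ := hsp s h
  obtain ⟨b, d, hd0, hbd⟩ := hfr (X.presheaf.germ V η hηV a)
  rcases ValuationRing.cond b d with ⟨e, he | he⟩
  · by_cases heu : IsUnit e
    · refine ha (↑heu.unit⁻¹) ?_
      have hb0 : X.presheaf.stalkSpecializes h b ≠ 0 := (map_ne_zero_iff _ hinj).2 fun hb => hd0 (by rw [← he, hb, zero_mul])
      letI := hf.toField
      have h2 : X.presheaf.germ V η hηV a * X.presheaf.stalkSpecializes h e = 1 := by
        refine mul_right_cancel₀ hb0 ?_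
        rw [one_mul]
        conv_rhs => rw [← hbd, ← he, map_mul]
        ring
      calc X.presheaf.stalkSpecializes h (↑heu.unit⁻¹)
          = X.presheaf.germ V η hηV a * X.presheaf.stalkSpecializes h e * X.presheaf.stalkSpecializes h (↑heu.unit⁻¹) := by
            rw [h2, one_mul]
        _ = _ := by rw [mul_assoc, ← map_mul, heu.mul_val_inv, map_one, mul_one]
    · letI := hf.toField
      have hb0 : X.presheaf.stalkSpecializes h b ≠ 0 := (map_ne_zero_iff _ hinj).2 fun hb => hd0 (by rw [← he, hb, zero_mul])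
      have h2 : X.presheaf.germ V η hηV a * X.presheaf.stalkSpecializes h e = 1 := by
        refine mul_right_cancel₀ hb0 ?_
        rw [one_mul]
        conv_rhs => rw [← hbd, ← he, map_mul]
        ring
      obtain ⟨c0, hc0⟩ := hno g hgI
      have hpow : ∀ N : ℕ, c0 ∈ IsLocalRing.maximalIdeal (X.presheaf.stalk s) ^ N := fun N => by
        obtain ⟨c, hc⟩ := hno (a ^ N * g) (I.mul_mem_left _ hgI)
        have : c0 = e ^ N * c := hinj (by
          rw [map_mul, map_pow, hc, hc0, map_mul, map_pow, ← mul_assoc, ← mul_pow,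
            mul_comm (X.presheaf.stalkSpecializes h e), h2, one_pow, one_mul])
        rw [this]
        exact Ideal.mul_mem_right _ _ (Ideal.pow_mem_pow heu N)
      have hc00 : c0 = 0 := by
        have := Ideal.mem_iInf.2 hpow
        rwa [Ideal.iInf_pow_eq_bot_of_isLocalRing _ (IsLocalRing.maximalIdeal.isMaximal _).ne_top, Ideal.mem_bot] at this
      rw [hc00, map_zero] at hc0
      haveI : Nonempty V := ⟨⟨η, hηV⟩⟩
      exact hg0 (germ_injective_of_isIntegral X η hηV (hc0.symm.trans (map_zero _).symm))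
  · refine ha e ?_
    letI := hf.toField
    refine mul_right_cancel₀ ((map_ne_zero_iff _ hinj).2 hd0) ?_
    rw [hbd, ← map_mul, mul_comm e, he]

section Product

variable {P : Scheme.{u}} {f : X ⟶ Spec (CommRingCat.of k)}
  {p₁ : P ⟶ X} {p₂ : P ⟶ Spec (CommRingCat.of (Polynomial k))}
  (hP : IsPullback p₁ p₂ f (Spec.map (CommRingCat.ofHom (C : k →+* Polynomial k))))
  [IsIntegral P] [IsLocallyNoetherian P] [Smooth f] (hdim : topologicalKrullDim X = 1) [CompactSpace X]

include hP hdim

/-- A rational function with a simple zero along one vertical divisor and no other vertical zero or pole. -/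
theorem exists_ratio {δ : P → ℤ} (hd : Cyc.IsDimFun P δ) {z : P} (hz : IsVert p₁ z) :
    ∃ φ : P.residueField (genericPoint P), φ ≠ 0 ∧ δ (genericPoint P) = δ z + 1 ∧
      Cyc.divFun δ (genericPoint P) φ z = 1 ∧
      ∀ z' : P, IsVert p₁ z' → z' ≠ z → Cyc.divFun δ (genericPoint P) φ z' = 0 := by
  haveI : IsLocallyNoetherian X := LocallyOfFiniteType.isLocallyNoetherian f
  haveI : IsNoetherian X := {}
  have hη := map_genericPoint hP
  obtain ⟨V, hV, hzV, -⟩ := exists_isAffineOpen_mem_and_subset (show p₁ z ∈ (⊤ : X.Opens) from trivial)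
  have hηV : p₁ (genericPoint P) ∈ V := ((genericPoint_specializes z).map p₁.continuous).mem_open V.isOpen hzV
  let m := (hV.primeIdealOf ⟨p₁ z, hzV⟩).asIdeal
  haveI hmax : m.IsMaximal := hV.primeIdealOf_isMaximal_of_isClosed _ hz.closed
  haveI : IsNoetherianRing Γ(X, V) := IsLocallyNoetherian.component_noetherian ⟨V, hV⟩
  obtain ⟨G, hG⟩ : ∃ G : Finset Γ(X, V), Ideal.span (G : Set Γ(X, V)) = m := IsNoetherian.noetherian m
  letI := X.presheaf.algebra_section_stalk (U := V) ⟨p₁ z, hzV⟩
  haveI := hV.isLocalization_stalk ⟨p₁ z, hzV⟩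
  have hmz : IsLocalRing.maximalIdeal (X.presheaf.stalk (p₁ z)) = m.map (algebraMap Γ(X, V) _) :=
    (IsLocalization.AtPrime.map_eq_maximalIdeal m _).symm
  obtain ⟨_, hdvr⟩ := dvr_base hP hdim hz
  have hm0 : m ≠ ⊥ := fun e => by
    rw [e, Ideal.map_bot] at hmz
    exact IsDiscreteValuationRing.not_isField _ ((IsLocalRing.isField_iff_maximalIdeal_eq).2 hmz)
  have hVc : ((V : Set X)ᶜ).Finite := Curve17.finite_of_isClosed hdim.le V.isOpen.isClosed_compl
    (fun e => (e ▸ Set.mem_univ (p₁ z) : p₁ z ∈ (V : Set X)ᶜ) hzV)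
  have hpole : ∀ s : X, ∃ a ∈ m, s ∉ V → ∀ (h : p₁ (genericPoint P) ⤳ s) (c : X.presheaf.stalk s),
      X.presheaf.stalkSpecializes h c ≠ X.presheaf.germ V (p₁ (genericPoint P)) hηV a := fun s => by
    by_cases hs : s ∈ V
    · exact ⟨0, zero_mem _, fun h => absurd hs h⟩
    have hsne : s ≠ genericPoint X := fun e => hs (e ▸ hη ▸ hηV)
    have hsc := Curve17.isClosed_singleton hdim.le hsne
    haveI := SmoothReg17.isIntegrallyClosed_stalk f s
    haveI := Curve17.isDiscreteValuationRing_stalk hdim hsc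
    obtain ⟨a, ha, ha'⟩ := exists_pole_mem hη hV hηV hs (hη ▸ genericPoint_specializes s) m hm0
    exact ⟨a, ha, fun _ _ c => ha' c⟩
  choose g hgm hg using hpole
  let T : Finset Γ(X, V) := G ∪ hVc.toFinset.image g
  have hTm : Ideal.span (T : Set Γ(X, V)) = m := le_antisymm
    (Ideal.span_le.2 fun a ha => by
      rcases Finset.mem_union.1 ha with h | h
      · exact hG.le (Ideal.subset_span h)
      · obtain ⟨s, -, rfl⟩ := Finset.mem_image.1 h
        exact hgm s)
    (hG.symm.trans_le (Ideal.span_mono (by simp [T])))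
  let γ : Fin T.card → Γ(X, V) := fun i => (T.equivFin.symm i).1
  have hγ : Set.range γ = (T : Set Γ(X, V)) := by
    rw [show γ = Subtype.val ∘ T.equivFin.symm from rfl, Set.range_comp, Equiv.range_eq_univ, Set.image_univ]
    exact Subtype.range_coe
  let a : Fin T.card → X.presheaf.stalk (p₁ (genericPoint P)) :=
    fun i => X.presheaf.germ V (p₁ (genericPoint P)) hηV (γ i)
  have hin : ∀ (z' : P) (hz' : p₁ z' ∈ V) (i : Fin T.card), a i * spGen p₁ z' 1 =
      spGen p₁ z' (X.presheaf.germ V (p₁ z') hz' (γ i)) := fun z' hz' i => by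
    rw [map_one, mul_one]
    exact (TopCat.Presheaf.germ_stalkSpecializes_apply X.presheaf hz'
      ((genericPoint_specializes z').map p₁.continuous) (γ i)).symm
  obtain ⟨hne, hone⟩ := (ord_ratio hP hdim hz hd a 1 (fun i => X.presheaf.germ V (p₁ z) hzV (γ i)) one_ne_zero
    (hin z hzV)).2 isUnit_one (by
      rw [hmz, ← hTm, Ideal.map_span, ← hγ, ← Set.range_comp]
      rfl)
  refine ⟨ratio p₁ p₂ a, hne, delta_generic hP hdim hz hd, hone, fun z' hz' hzz' => ?_⟩
  by_cases hz'V : p₁ z' ∈ V
  · refine (ord_ratio hP hdim hz' hd a 1 (fun i => X.presheaf.germ V (p₁ z') hz'V (γ i)) one_ne_zero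
      (hin z' hz'V)).1 ?_
    by_contra hno
    push Not at hno
    letI := X.presheaf.algebra_section_stalk (U := V) ⟨p₁ z', hz'V⟩
    haveI := hV.isLocalization_stalk ⟨p₁ z', hz'V⟩
    have hle : m ≤ (hV.primeIdealOf ⟨p₁ z', hz'V⟩).asIdeal := by
      rw [← hTm, ← hγ, Ideal.span_le]
      rintro _ ⟨i, rfl⟩
      by_contra hn
      exact hno i ((IsLocalization.AtPrime.isUnit_to_map_iff (X.presheaf.stalk (p₁ z')) _ (γ i)).2 hn)
    have e : hV.primeIdealOf ⟨p₁ z, hzV⟩ = hV.primeIdealOf ⟨p₁ z', hz'V⟩ :=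
      PrimeSpectrum.ext (hmax.eq_of_le (PrimeSpectrum.isPrime _).ne_top hle)
    refine hzz' (eq_of_map_eq hP hz' hz ?_)
    calc p₁ z' = hV.fromSpec (hV.primeIdealOf ⟨p₁ z', hz'V⟩) := (hV.fromSpec_primeIdealOf ⟨p₁ z', hz'V⟩).symm
      _ = hV.fromSpec (hV.primeIdealOf ⟨p₁ z, hzV⟩) := congrArg hV.fromSpec e.symm
      _ = p₁ z := hV.fromSpec_primeIdealOf ⟨p₁ z, hzV⟩
  · obtain ⟨_, _⟩ := dvr_base hP hdim hz'
    obtain ⟨hf, hsp⟩ := frac_of_generic hη
    obtain ⟨hinj, hfr⟩ := hsp (p₁ z') ((genericPoint_specializes z').map p₁.continuous)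
    letI := hf.toField
    choose b d hd0 hbd using fun i => hfr (a i)
    let D := ∏ i, d i
    have hD : D ≠ 0 := Finset.prod_ne_zero_iff.2 fun i _ => hd0 i
    let B : Fin T.card → X.presheaf.stalk (p₁ z') := fun i => b i * ∏ j ∈ Finset.univ.erase i, d j
    have hB : ∀ i, a i * spGen p₁ z' D = spGen p₁ z' (B i) := fun i => by
      rw [map_mul (spGen p₁ z').hom, ← hbd i, mul_assoc, ← map_mul, Finset.mul_prod_erase _ _ (Finset.mem_univ i)]
    obtain ⟨w, hw⟩ := (IsPrincipalIdealRing.principal (Ideal.span (insert D (Set.range B)))).principal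
    have hDw : ∃ e, D = w * e := by
      obtain ⟨e, he⟩ := Ideal.mem_span_singleton'.1 (hw.le (Ideal.subset_span (Set.mem_insert _ _)))
      exact ⟨e, by rw [← he, mul_comm]⟩
    have hBw : ∀ i, ∃ e, B i = w * e := fun i => by
      obtain ⟨e, he⟩ := Ideal.mem_span_singleton'.1
        (hw.le (Ideal.subset_span (Set.mem_insert_of_mem _ (Set.mem_range_self i))))
      exact ⟨e, by rw [← he, mul_comm]⟩
    obtain ⟨D', hD'⟩ := hDw
    choose B' hB' using hBw
    have hw0 : w ≠ 0 := fun e => hD (by rw [hD', e, zero_mul])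
    have hcancel : ∀ i, a i * spGen p₁ z' D' = spGen p₁ z' (B' i) := fun i => by
      have h := hB i
      rw [hD', hB' i, map_mul, map_mul, mul_left_comm] at h
      exact mul_left_cancel₀ ((map_ne_zero_iff _ hinj).2 hw0) h
    refine (ord_ratio hP hdim hz' hd a D' B' (fun e => hD (by rw [hD', e, mul_zero])) hcancel).1 ?_
    by_contra hno
    push Not at hno
    by_cases hu : IsUnit D'
    · have hgT : g (p₁ z') ∈ T := Finset.mem_union_right _ (Finset.mem_image_of_mem g (hVc.mem_toFinset.2 hz'V))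
      obtain ⟨i, hi⟩ := hγ.symm.le hgT
      refine hg (p₁ z') hz'V ((genericPoint_specializes z').map p₁.continuous) (B' i * ↑hu.unit⁻¹) ?_
      rw [map_mul, ← hcancel i, mul_assoc, ← map_mul (spGen p₁ z').hom, hu.mul_val_inv, map_one, mul_one, ← hi]
    · have h1 : Ideal.span (insert D (Set.range B)) ≤
          Ideal.span {w} * IsLocalRing.maximalIdeal (X.presheaf.stalk (p₁ z')) := by
        refine Ideal.span_le.2 ?_
        rintro _ (rfl | ⟨i, rfl⟩)
        · rw [hD']; exact Ideal.mul_mem_mul (Ideal.mem_span_singleton_self w) hu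
        · rw [hB' i]; exact Ideal.mul_mem_mul (Ideal.mem_span_singleton_self w) (hno i)
      obtain ⟨e, he, hwe⟩ := Ideal.mem_span_singleton_mul.1 (h1 (hw.ge (Ideal.mem_span_singleton_self w)))
      refine he (IsUnit.of_mul_eq_one_right (1 : X.presheaf.stalk (p₁ z')) ?_)
      rw [one_mul]
      exact mul_left_cancel₀ hw0 (hwe.trans (mul_one w).symm)

end Product

end Groth.Agent.Horiz26
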