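import Groth.Agent.Lib.Horiz26.Vert
import Groth.Agent.Lib.Cyc26.Frac
import Groth.Agent.Lib.Cyc26.DivFun
import Groth.Agent.Lib.Curve17.Basic
import Groth.Agent.Lib.SmoothReg17.Basic
import Groth.Prelude.Def_Cyc

/-! # Rational functions on `X ×_k A¹` and their orders along vertical divisors -/

set_option autoImplicit false
set_option linter.style.haveILetI false
universe u

open CategoryTheory AlgebraicGeometry TopologicalSpace Polynomial CategoryTheory.Limits

namespace Groth.Agent.Horiz26

theorem frac_of_generic {X : Scheme.{u}} [IsIntegral X] {η : X} (e : η = genericPoint X) :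
    IsField (X.presheaf.stalk η) ∧ ∀ (y : X) (h : η ⤳ y), Function.Injective (X.presheaf.stalkSpecializes h) ∧
      ∀ a, ∃ b d : X.presheaf.stalk y, d ≠ 0 ∧ a * X.presheaf.stalkSpecializes h d = X.presheaf.stalkSpecializes h b := by
  subst e
  refine ⟨Field.toIsField X.functionField, fun y h => ⟨IsFractionRing.injective (X.presheaf.stalk y) X.functionField,
    fun a => ?_⟩⟩
  obtain ⟨⟨b, d⟩, hbd⟩ := IsLocalization.surj (nonZeroDivisors (X.presheaf.stalk y)) (a : X.functionField)
  exact ⟨b, d, nonZeroDivisors.ne_zero d.2, hbd⟩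

variable {k : Type u} [Field k] {X P : Scheme.{u}} {f : X ⟶ Spec (CommRingCat.of k)}
  [IsIntegral X] [IsIntegral P]
  {p₁ : P ⟶ X} {p₂ : P ⟶ Spec (CommRingCat.of (Polynomial k))}

/-- Functions on the generic stalk of `X` as rational functions on `P`. -/
noncomputable def toFun (p₁ : P ⟶ X) : X.presheaf.stalk (p₁ (genericPoint P)) →+* P.residueField (genericPoint P) :=
  (p₁.stalkMap (genericPoint P) ≫ P.residue (genericPoint P)).hom

/-- The coordinate as a rational function. -/
noncomputable def coordFun (p₂ : P ⟶ Spec (CommRingCat.of (Polynomial k))) : P.residueField (genericPoint P) :=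
  P.residue (genericPoint P) (coordGerm p₂ (genericPoint P))

/-- The rational function attached to a family of functions on `X`. -/
noncomputable def ratio (p₁ : P ⟶ X) (p₂ : P ⟶ Spec (CommRingCat.of (Polynomial k))) {n : ℕ}
    (a : Fin n → X.presheaf.stalk (p₁ (genericPoint P))) : P.residueField (genericPoint P) :=
  (∑ i, toFun p₁ (a i) * coordFun p₂ ^ (i : ℕ)) / (1 + ∑ i, toFun p₁ (a i) * coordFun p₂ ^ ((i : ℕ) + 1))

/-- Specialisation from the generic point. -/
noncomputable abbrev spGen (p₁ : P ⟶ X) (z : P) :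
    X.presheaf.stalk (p₁ z) ⟶ X.presheaf.stalk (p₁ (genericPoint P)) :=
  X.presheaf.stalkSpecializes ((genericPoint_specializes z).map p₁.continuous)

theorem toFun_spGen (z : P) (b : X.presheaf.stalk (p₁ z)) :
    toFun p₁ (spGen p₁ z b) =
      Cyc.specMap z (genericPoint P) (genericPoint_specializes z) ((p₁.stalkMap z).hom b) :=
  congrArg (P.residue (genericPoint P))
    (Scheme.Hom.stalkSpecializes_stalkMap_apply p₁ (genericPoint P) z (genericPoint_specializes z) b)

theorem coordFun_eq (z : P) :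
    coordFun p₂ = Cyc.specMap z (genericPoint P) (genericPoint_specializes z) (coordGerm p₂ z) :=
  (congrArg (P.residue (genericPoint P))
    (TopCat.Presheaf.germ_stalkSpecializes_apply P.presheaf (show z ∈ (⊤ : P.Opens) from trivial) (genericPoint_specializes z) (coord p₂))).symm

variable (hP : IsPullback p₁ p₂ f (Spec.map (CommRingCat.ofHom (C : k →+* Polynomial k))))

include hP

theorem map_genericPoint : p₁ (genericPoint P) = genericPoint X := by
  obtain ⟨w, hw⟩ := surjective_proj hP (genericPoint X)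
  have h := (genericPoint_specializes w).map p₁.continuous
  rw [hw] at h
  exact (h.antisymm (genericPoint_specializes _)).eq

variable [Smooth f] (hdim : topologicalKrullDim X = 1) {z : P} (hz : IsVert p₁ z)

include hdim hz

theorem dvr_base : ∃ (_ : IsDomain (X.presheaf.stalk (p₁ z))), IsDiscreteValuationRing (X.presheaf.stalk (p₁ z)) := by
  haveI : IsLocallyNoetherian X := LocallyOfFiniteType.isLocallyNoetherian f
  haveI := SmoothReg17.isIntegrallyClosed_stalk f (p₁ z)
  exact ⟨inferInstance, Curve17.isDiscreteValuationRing_stalk hdim hz.closed⟩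

theorem stalkMap_injective : Function.Injective (p₁.stalkMap z).hom := by
  intro a b hab
  obtain ⟨hf, hsp⟩ := frac_of_generic (map_genericPoint hP)
  letI := hf.toField
  refine (hsp (p₁ z) ((genericPoint_specializes z).map p₁.continuous)).1 ((toFun p₁).injective ?_)
  show toFun p₁ (spGen p₁ z a) = toFun p₁ (spGen p₁ z b)
  rw [toFun_spGen, toFun_spGen, hab]

theorem dvr_vert [IsLocallyNoetherian P] : ∃ π : X.presheaf.stalk (p₁ z),
    IsLocalRing.maximalIdeal (X.presheaf.stalk (p₁ z)) = Ideal.span {π} ∧ π ≠ 0 ∧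
    IsLocalRing.maximalIdeal (P.presheaf.stalk z) = Ideal.span {(p₁.stalkMap z).hom π} ∧
    IsDiscreteValuationRing (P.presheaf.stalk z) := by
  obtain ⟨_, _⟩ := dvr_base hP hdim hz
  obtain ⟨π, hπ⟩ := IsDiscreteValuationRing.exists_irreducible (X.presheaf.stalk (p₁ z))
  have h0 := hπ.ne_zero
  have h1 := hπ.maximalIdeal_eq
  have h2 : IsLocalRing.maximalIdeal (P.presheaf.stalk z) = Ideal.span {(p₁.stalkMap z).hom π} := by
    rw [maximalIdeal_stalk hP hz, h1, Ideal.map_span, Set.image_singleton]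
  exact ⟨π, h1, h0, h2, isDVR_of_maximalIdeal _ _ ((map_ne_zero_iff _ (stalkMap_injective hP hdim hz)).2 h0) h2⟩

theorem delta_generic [IsLocallyNoetherian P] {δ : P → ℤ} (hd : Cyc.IsDimFun P δ) : δ (genericPoint P) = δ z + 1 := by
  obtain ⟨π, -, -, -, hdvr⟩ := dvr_vert hP hdim hz
  have hne : genericPoint P ≠ z := fun e =>
    Curve17.ne_genericPoint hdim hz.closed (by rw [← e, map_genericPoint hP])
  refine (hd (genericPoint P) z (genericPoint_specializes z) hne).2 fun w _ hwz => ?_
  have hmem : ∀ v : P, v ⤳ z → v = z ∨ v = P.fromSpecStalk z (⟨⊥, Ideal.isPrime_bot⟩ :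
      PrimeSpectrum (P.presheaf.stalk z)) := by
    intro v hv
    obtain ⟨q, rfl⟩ := (Scheme.range_fromSpecStalk (X := P) (x := z)).symm.le hv
    by_cases hq : (q : PrimeSpectrum (P.presheaf.stalk z)).asIdeal = ⊥
    · exact Or.inr (congrArg (P.fromSpecStalk z) (PrimeSpectrum.ext hq))
    · left
      have : q = IsLocalRing.closedPoint (P.presheaf.stalk z) := PrimeSpectrum.ext
        (IsLocalRing.eq_maximalIdeal (Ideal.IsPrime.isMaximal (q : PrimeSpectrum (P.presheaf.stalk z)).isPrime hq))
      rw [this]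
      exact Scheme.fromSpecStalk_closedPoint
  rcases hmem w hwz with rfl | hw
  · exact Or.inr rfl
  · rcases hmem (genericPoint P) (genericPoint_specializes z) with h | h
    · exact absurd h hne
    · exact Or.inl (hw.trans h.symm)

omit hdim in
theorem ratio_eq {n : ℕ} (a : Fin n → X.presheaf.stalk (p₁ (genericPoint P))) (d : X.presheaf.stalk (p₁ z))
    (b : Fin n → X.presheaf.stalk (p₁ z)) (hd0 : d ≠ 0) (hab : ∀ i, a i * spGen p₁ z d = spGen p₁ z (b i))
    {den : P.presheaf.stalk z} (hden : den = (p₁.stalkMap z).hom d +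
      ∑ i, (p₁.stalkMap z).hom (b i) * coordGerm p₂ z ^ ((i : ℕ) + 1)) :
    ratio p₁ p₂ a = Cyc.specMap z (genericPoint P) (genericPoint_specializes z)
        (∑ i, (p₁.stalkMap z).hom (b i) * coordGerm p₂ z ^ (i : ℕ)) /
      Cyc.specMap z (genericPoint P) (genericPoint_specializes z) den := by
  obtain ⟨hf, hsp⟩ := frac_of_generic (map_genericPoint hP)
  letI := hf.toField
  have hD : toFun p₁ (spGen p₁ z d) ≠ 0 :=
    (map_ne_zero_iff _ (toFun p₁).injective).2
      ((map_ne_zero_iff _ (hsp (p₁ z) ((genericPoint_specializes z).map p₁.continuous)).1).2 hd0)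
  have hb : ∀ i, toFun p₁ (a i) *
      Cyc.specMap z (genericPoint P) (genericPoint_specializes z) ((p₁.stalkMap z).hom d) =
      Cyc.specMap z (genericPoint P) (genericPoint_specializes z) ((p₁.stalkMap z).hom (b i)) := fun i => by
    rw [← toFun_spGen, ← map_mul, hab, toFun_spGen]
  rw [ratio, ← mul_div_mul_right _ _ hD, hden, map_add, map_sum, map_sum, Finset.sum_mul, add_mul, one_mul,
    Finset.sum_mul, toFun_spGen]
  congr 1
  · exact Finset.sum_congr rfl fun i _ => by rw [map_mul, map_pow, ← coordFun_eq, ← hb i]; ring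
  · congr 1
    exact Finset.sum_congr rfl fun i _ => by rw [map_mul, map_pow, ← coordFun_eq, ← hb i]; ring

/-- Orders of the rational functions along vertical divisors. -/
theorem ord_ratio [IsLocallyNoetherian P] {δ : P → ℤ} (hd : Cyc.IsDimFun P δ) {n : ℕ}
    (a : Fin n → X.presheaf.stalk (p₁ (genericPoint P))) (d : X.presheaf.stalk (p₁ z))
    (b : Fin n → X.presheaf.stalk (p₁ z)) (hd0 : d ≠ 0) (hab : ∀ i, a i * spGen p₁ z d = spGen p₁ z (b i)) :
    ((∃ i, IsUnit (b i)) → Cyc.divFun δ (genericPoint P) (ratio p₁ p₂ a) z = 0) ∧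
    (IsUnit d → Ideal.span (Set.range b) = IsLocalRing.maximalIdeal (X.presheaf.stalk (p₁ z)) →
      ratio p₁ p₂ a ≠ 0 ∧ Cyc.divFun δ (genericPoint P) (ratio p₁ p₂ a) z = 1) := by
  obtain ⟨π, hm, hπ0, hmz, hdvr⟩ := dvr_vert hP hdim hz
  have hδ : δ z + 1 = δ (genericPoint P) := (delta_generic hP hdim hz hd).symm
  let ψ := Cyc.specMap z (genericPoint P) (genericPoint_specializes z)
  have hψ : Function.Injective ψ :=
    (RingHom.injective_iff_ker_eq_bot ψ).2 (Cyc26.ker_specMap_generic (genericPoint_specializes z))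
  let num := ∑ i, (p₁.stalkMap z).hom (b i) * coordGerm p₂ z ^ (i : ℕ)
  let den := ∑ i, (p₁.stalkMap z).hom (Fin.cons (α := fun _ => X.presheaf.stalk (p₁ z)) d b i) *
    coordGerm p₂ z ^ (i : ℕ)
  have hden : den = (p₁.stalkMap z).hom d +
      ∑ i, (p₁.stalkMap z).hom (b i) * coordGerm p₂ z ^ ((i : ℕ) + 1) := by
    simp [den, Fin.sum_univ_succ]
  have hval : (∃ i, IsUnit (Fin.cons (α := fun _ => X.presheaf.stalk (p₁ z)) d b i)) → ∀ w : P.presheaf.stalk z,
      w * den = num → ratio p₁ p₂ a = ψ w := by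
    intro hu w hw
    rw [ratio_eq hP hz a d b hd0 hab hden, eq_comm, eq_div_iff ((map_ne_zero_iff _ hψ).2
      (isUnit_sum_stalk hP hz _ hu).ne_zero), ← map_mul, hw]
  refine ⟨fun ⟨i, hi⟩ => ?_, fun hdu hb => ?_⟩
  · obtain ⟨u, hu⟩ := isUnit_sum_stalk (p₂ := p₂) hP hz (Fin.cons (α := fun _ => X.presheaf.stalk (p₁ z)) d b)
      ⟨i.succ, by simpa using hi⟩
    rw [Cyc.divFun, dif_pos ⟨genericPoint_specializes z, hδ⟩,
      hval ⟨i.succ, by simpa using hi⟩ (num * ↑u⁻¹) (by rw [show den = ↑u from hu.symm, Units.inv_mul_cancel_right])]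
    exact Cyc26.ordAt_eq_zero_of_isUnit _ ((isUnit_sum_stalk hP hz b ⟨i, hi⟩).mul (Units.isUnit _))
  · obtain ⟨u, hu⟩ := isUnit_sum_stalk (p₂ := p₂) hP hz (Fin.cons (α := fun _ => X.presheaf.stalk (p₁ z)) d b)
      ⟨0, by simpa using hdu⟩
    have hbm : ∀ i, ∃ c, b i = π * c := fun i => by
      have : b i ∈ Ideal.span {π} := hm ▸ hb ▸ Ideal.subset_span (Set.mem_range_self i)
      obtain ⟨c, hc⟩ := Ideal.mem_span_singleton'.1 this
      exact ⟨c, by rw [← hc, mul_comm]⟩
    choose c hc using hbm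
    have hcu : ∃ i, IsUnit (c i) := by
      by_contra hno
      push Not at hno
      have hπ : π ∈ Ideal.span {π * π} := by
        have h1 : π ∈ Ideal.span (Set.range b) := by
          rw [hb, hm]; exact Ideal.mem_span_singleton_self π
        refine Ideal.span_le.2 ?_ h1
        rintro _ ⟨i, rfl⟩
        have : c i ∈ Ideal.span {π} := hm ▸ hno i
        obtain ⟨e, he⟩ := Ideal.mem_span_singleton'.1 this
        exact Ideal.mem_span_singleton'.2 ⟨e, by rw [hc i, ← he]; ring⟩
      obtain ⟨e, he⟩ := Ideal.mem_span_singleton'.1 hπ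
      obtain ⟨_, _⟩ := dvr_base hP hdim hz
      have h2 : π * (e * π - 1) = 0 := by rw [mul_sub, mul_one, sub_eq_zero]; exact (by ring : _ = e * (π * π)).trans he
      rcases mul_eq_zero.1 h2 with h | h
      · exact hπ0 h
      · have hmem : π ∈ IsLocalRing.maximalIdeal (X.presheaf.stalk (p₁ z)) := hm ▸ Ideal.mem_span_singleton_self π
        exact hmem (IsUnit.of_mul_eq_one_right e (sub_eq_zero.1 h))
    obtain ⟨v, hv⟩ := isUnit_sum_stalk (p₂ := p₂) hP hz c hcu
    have hnum : num = (p₁.stalkMap z).hom π * ↑v := by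
      rw [hv, Finset.mul_sum]
      exact Finset.sum_congr rfl fun i _ => by rw [hc i, map_mul, mul_assoc]
    have hπz : (p₁.stalkMap z).hom π ≠ 0 := (map_ne_zero_iff _ (stalkMap_injective hP hdim hz)).2 hπ0
    have hw0 : num * ↑u⁻¹ ≠ 0 := by
      rw [hnum]; exact mul_ne_zero (mul_ne_zero hπz v.ne_zero) (Units.ne_zero _)
    have he := hval ⟨0, by simpa using hdu⟩ (num * ↑u⁻¹) (by rw [show den = ↑u from hu.symm, Units.inv_mul_cancel_right])
    refine ⟨he ▸ (map_ne_zero_iff _ hψ).2 hw0, ?_⟩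
    rw [Cyc.divFun, dif_pos ⟨genericPoint_specializes z, hδ⟩, he, Cyc26.ordAt_specMap_generic hd _ hδ hw0]
    have hspan : Ideal.span {num * ↑u⁻¹} = IsLocalRing.maximalIdeal (P.presheaf.stalk z) := by
      rw [hnum, mul_assoc, Ideal.span_singleton_mul_right_unit (v.isUnit.mul (Units.isUnit _)), hmz]
    rw [hspan]
    haveI : IsSimpleModule (P.presheaf.stalk z) (P.presheaf.stalk z ⧸ IsLocalRing.maximalIdeal (P.presheaf.stalk z)) :=
      isSimpleModule_iff_isCoatom.2 (Ideal.isMaximal_def.1 inferInstance)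
    rw [Module.length_eq_one]
    rfl

end Groth.Agent.Horiz26
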