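import Groth.Agent.Lib.Horiz26.Chart

/-! # The generic points of the closed fibres of `X ×_k A¹ ⟶ X` -/

set_option autoImplicit false
set_option linter.style.haveILetI false
universe u

open CategoryTheory AlgebraicGeometry TopologicalSpace Polynomial CategoryTheory.Limits

namespace Groth.Agent.Horiz26

variable {k : Type u} [Field k] {X P : Scheme.{u}} {f : X ⟶ Spec (CommRingCat.of k)}
  {p₁ : P ⟶ X} {p₂ : P ⟶ Spec (CommRingCat.of (Polynomial k))}
  (hP : IsPullback p₁ p₂ f (Spec.map (CommRingCat.ofHom (C : k →+* Polynomial k))))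

/-- A point over a closed point which is not closed. -/
structure IsVert (p₁ : P ⟶ X) (z : P) : Prop where
  closed : IsClosed ({p₁ z} : Set X)
  notClosed : ¬ IsClosed ({z} : Set P)

/-- The germ of the coordinate. -/
noncomputable def coordGerm (p₂ : P ⟶ Spec (CommRingCat.of (Polynomial k))) (z : P) : P.presheaf.stalk z :=
  P.presheaf.germ ⊤ z trivial (coord p₂)

include hP

theorem jacobsonSpace [LocallyOfFiniteType f] : JacobsonSpace P := by
  haveI : LocallyOfFiniteType (Spec.map (CommRingCat.ofHom (C : k →+* Polynomial k))) :=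
    (HasRingHomProperty.Spec_iff (P := @LocallyOfFiniteType)).2
      (RingHom.finiteType_algebraMap.2 (inferInstance : Algebra.FiniteType k (Polynomial k)))
  haveI : LocallyOfFiniteType p₂ := MorphismProperty.of_isPullback hP ‹_›
  haveI : JacobsonSpace (Spec (CommRingCat.of k)) :=
    PrimeSpectrum.isJacobsonRing_iff_jacobsonSpace.mp inferInstance
  exact LocallyOfFiniteType.jacobsonSpace (p₂ ≫ Spec.map (CommRingCat.ofHom (C : k →+* Polynomial k)))

theorem primeIdealOf_eq [LocallyOfFiniteType f] {z : P} (hz : IsVert p₁ z) {V : X.Opens}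
    (hV : IsAffineOpen V) (hzV : p₁ z ∈ V) :
    ((isAffineOpen_preimage hP hV).primeIdealOf ⟨z, hzV⟩).asIdeal =
      (hV.primeIdealOf ⟨p₁ z, hzV⟩).asIdeal.map (p₁.app V).hom := by
  haveI := hV.primeIdealOf_isMaximal_of_isClosed ⟨p₁ z, hzV⟩ hz.closed
  have hW := isAffineOpen_preimage hP hV
  have hQ : (hW.primeIdealOf ⟨z, hzV⟩).asIdeal.comap (p₁.app V).hom =
      (hV.primeIdealOf ⟨p₁ z, hzV⟩).asIdeal := by
    rw [Scheme.Hom.app_eq_appLE]
    exact congrArg PrimeSpectrum.asIdeal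
      (IsAffineOpen.comap_primeIdealOf_appLE (f := p₁) V hV (p₁ ⁻¹ᵁ V) hW le_rfl hzV)
  refine (isMaximal_or_eq_map _ _ (bijective_eval₂ hP hV) _ _ hQ).resolve_left fun hmax => hz.notClosed ?_
  haveI := jacobsonSpace hP
  refine isClosed_singleton_of_isLocallyClosed_singleton ?_
  have h1 : IsClosed ({hW.primeIdealOf ⟨z, hzV⟩} : Set (Spec Γ(P, p₁ ⁻¹ᵁ V))) :=
    (PrimeSpectrum.isClosed_singleton_iff_isMaximal _).2 hmax
  have h2 := h1.isLocallyClosed.image hW.fromSpec.isEmbedding.isInducing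
    (by rw [hW.range_fromSpec]; exact (p₁ ⁻¹ᵁ V).isOpen.isLocallyClosed)
  have e : hW.fromSpec '' {hW.primeIdealOf ⟨z, hzV⟩} = ({z} : Set P) :=
    Set.image_singleton.trans (congrArg (fun a : P => ({a} : Set P)) (hW.fromSpec_primeIdealOf ⟨z, hzV⟩))
  exact e ▸ h2

theorem eq_of_map_eq [LocallyOfFiniteType f] {z z' : P} (hz : IsVert p₁ z) (hz' : IsVert p₁ z')
    (h : p₁ z = p₁ z') : z = z' := by
  obtain ⟨V, hV, hzV, -⟩ := exists_isAffineOpen_mem_and_subset (show p₁ z ∈ (⊤ : X.Opens) from trivial)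
  have hzV' : p₁ z' ∈ V := h ▸ hzV
  have hW := isAffineOpen_preimage hP hV
  have e : hW.primeIdealOf ⟨z, hzV⟩ = hW.primeIdealOf ⟨z', hzV'⟩ := by
    refine PrimeSpectrum.ext ?_
    rw [primeIdealOf_eq hP hz hV hzV, primeIdealOf_eq hP hz' hV hzV']
    congr 4
  calc z = hW.fromSpec (hW.primeIdealOf ⟨z, hzV⟩) := (hW.fromSpec_primeIdealOf ⟨z, hzV⟩).symm
    _ = hW.fromSpec (hW.primeIdealOf ⟨z', hzV'⟩) := congrArg hW.fromSpec e
    _ = z' := hW.fromSpec_primeIdealOf ⟨z', hzV'⟩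

theorem maximalIdeal_stalk [LocallyOfFiniteType f] {z : P} (hz : IsVert p₁ z) :
    IsLocalRing.maximalIdeal (P.presheaf.stalk z) =
      (IsLocalRing.maximalIdeal (X.presheaf.stalk (p₁ z))).map (p₁.stalkMap z).hom := by
  obtain ⟨V, hV, hzV, -⟩ := exists_isAffineOpen_mem_and_subset (show p₁ z ∈ (⊤ : X.Opens) from trivial)
  letI := X.presheaf.algebra_section_stalk (U := V) ⟨p₁ z, hzV⟩
  haveI := hV.isLocalization_stalk ⟨p₁ z, hzV⟩
  letI := P.presheaf.algebra_section_stalk (U := p₁ ⁻¹ᵁ V) ⟨z, hzV⟩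
  haveI := (isAffineOpen_preimage hP hV).isLocalization_stalk ⟨z, hzV⟩
  rw [maximalIdeal_eq (p₁.app V).hom (hV.primeIdealOf ⟨p₁ z, hzV⟩).asIdeal _ (primeIdealOf_eq hP hz hV hzV)
      (P.presheaf.stalk z),
    ← IsLocalization.AtPrime.map_eq_maximalIdeal (hV.primeIdealOf ⟨p₁ z, hzV⟩).asIdeal (X.presheaf.stalk (p₁ z)),
    Ideal.map_map]
  congr 1
  ext a
  exact (Scheme.Hom.germ_stalkMap_apply p₁ V z hzV a).symm

theorem isUnit_sum_stalk [LocallyOfFiniteType f] {z : P} (hz : IsVert p₁ z) {n : ℕ}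
    (c : Fin n → X.presheaf.stalk (p₁ z)) (hc : ∃ i, IsUnit (c i)) :
    IsUnit (∑ i, (p₁.stalkMap z).hom (c i) * coordGerm p₂ z ^ (i : ℕ)) := by
  obtain ⟨V, hV, hzV, -⟩ := exists_isAffineOpen_mem_and_subset (show p₁ z ∈ (⊤ : X.Opens) from trivial)
  letI := X.presheaf.algebra_section_stalk (U := V) ⟨p₁ z, hzV⟩
  haveI := hV.isLocalization_stalk ⟨p₁ z, hzV⟩
  letI := P.presheaf.algebra_section_stalk (U := p₁ ⁻¹ᵁ V) ⟨z, hzV⟩
  haveI := (isAffineOpen_preimage hP hV).isLocalization_stalk ⟨z, hzV⟩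
  obtain ⟨b, hb⟩ := IsLocalization.exist_integer_multiples_of_finite
    (hV.primeIdealOf ⟨p₁ z, hzV⟩).asIdeal.primeCompl c
  choose a ha using hb
  have hbu : IsUnit (algebraMap Γ(X, V) (X.presheaf.stalk (p₁ z)) b) := IsLocalization.map_units _ b
  have hex : ∃ i, a i ∉ (hV.primeIdealOf ⟨p₁ z, hzV⟩).asIdeal := by
    obtain ⟨i, hi⟩ := hc
    refine ⟨i, (IsLocalization.AtPrime.isUnit_to_map_iff (X.presheaf.stalk (p₁ z)) _ (a i)).1 ?_⟩
    rw [ha, Algebra.smul_def]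
    exact hbu.mul hi
  have h := isUnit_sum (p₁.app V).hom (coordOn p₂ (p₁ ⁻¹ᵁ V)) (bijective_eval₂ hP hV) _ _
    (primeIdealOf_eq hP hz hV hzV) (S := P.presheaf.stalk z) a hex
  refine (IsUnit.mul_iff (x := (p₁.stalkMap z).hom (algebraMap Γ(X, V) _ (b : Γ(X, V))))).1 ?_ |>.2
  convert h using 1
  rw [Finset.mul_sum, map_sum]
  refine Finset.sum_congr rfl fun i _ => ?_
  have e1 : algebraMap Γ(P, p₁ ⁻¹ᵁ V) (P.presheaf.stalk z) ((p₁.app V).hom (a i)) =
      (p₁.stalkMap z).hom (algebraMap Γ(X, V) _ (a i)) :=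
    (Scheme.Hom.germ_stalkMap_apply p₁ V z hzV (a i)).symm
  have e2 : algebraMap Γ(P, p₁ ⁻¹ᵁ V) (P.presheaf.stalk z) (coordOn p₂ (p₁ ⁻¹ᵁ V)) = coordGerm p₂ z :=
    TopCat.Presheaf.germ_res_apply P.presheaf _ z hzV (coord p₂)
  rw [map_mul, map_pow, e1, e2, ha, Algebra.smul_def, map_mul, mul_assoc]

end Groth.Agent.Horiz26
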